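import Groth.Agent.ElemSqLib.Desc
import Groth.Prelude.Def_AlgSpSub

/-!
Elementary distinguished squares are pushouts.
-/

set_option autoImplicit false
set_option backward.isDefEq.respectTransparency false
set_option backward.isDefEq.respectTransparency.types false

universe u

open CategoryTheory CategoryTheory.Limits AlgebraicGeometry Opposite

namespace Groth.Agent.ElemSqLib

open _root_.AlgSp Groth.Agent.ASp

variable {S : Scheme.{u}} {U V W P : Sp S} {j : U ⟶ W} {f : V ⟶ W}

theorem isEtaleMor_of_openImm {A B : Sp S} {g : A ⟶ B} (hg : RepWith @IsOpenImmersion g) : IsEtaleMor g :=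
  fun _ _ hφ => repWith_comp hφ (repWith_mono (fun _ _ k (hk : IsOpenImmersion k) => inferInstanceAs (Etale k)) hg)

theorem isReducedSp_yon {Q : Over S} [IsReduced Q.left] : IsReducedSp ((yon S).obj Q) :=
  ⟨Q, 𝟙 _, repWith_id _ Q, repWith_id _ Q, ‹_›⟩

/-- Points of `W` outside `U` lift to `V`. -/
theorem mem_range_or (hsq : IsElemDistSq j f) (x : Points W) :
    x ∈ Set.range (Points.map j) ∨ x ∈ Set.range (Points.map f) := by
  by_cases hx : x ∈ Set.range (Points.map j)
  · exact Or.inl hx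
  obtain ⟨T, P', i, p₁, p₂, ⟨-, hr, -⟩, hP, hiso⟩ := hsq.2.2
  obtain ⟨t, rfl⟩ : x ∈ Set.range (Points.map i) := hr ▸ hx
  refine Or.inr ⟨Points.map p₂ (Points.map (inv p₁) t), ?_⟩
  rw [← Points.map_comp, ← Points.map_comp, ← hP.w, IsIso.inv_hom_id_assoc]

/-- Over a reduced scheme mapping outside `U`, lifts to `V` are unique. -/
theorem lift_unique (hsq : IsElemDistSq j f) {Q : Over S} [IsReduced Q.left] (v₁ v₂ : (yon S).obj Q ⟶ V)
    (e : v₁ ≫ f = v₂ ≫ f) (hout : ∀ q, Points.ofPt (v₁ ≫ f) q ∉ Set.range (Points.map j)) : v₁ = v₂ := by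
  obtain ⟨T, P', i, p₁, p₂, ⟨hi, hr, -⟩, hP, hiso⟩ := hsq.2.2
  obtain ⟨k, hk⟩ := exists_lift_of_reduced (isReducedSp_yon (Q := Q)) hi (v₁ ≫ f) (by
    rintro _ ⟨x, rfl⟩
    obtain ⟨q, rfl⟩ := (Points.schemeHomeo Q).surjective x
    rw [hr]
    have := hout q
    rw [ofPt_comp_eq_map] at this
    exact this)
  let l₁ := hP.lift k v₁ hk
  let l₂ := hP.lift k v₂ (hk.trans e)
  have : l₁ = l₂ := (cancel_mono p₁).1 (by rw [hP.lift_fst, hP.lift_fst])
  rw [← hP.lift_snd k v₁ hk, ← hP.lift_snd k v₂ (hk.trans e)]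
  exact congrArg (· ≫ p₂) this

/-- The diagonal and the part over `U` cover `V ×_W V`. -/
theorem kernelPair_hom_ext (hV : IsAlgSpace V) (hW : IsAlgSpace W) (hU : IsAlgSpace U)
    (hsq : IsElemDistSq j f) {Z : Sp S} {c c' : pullback f f ⟶ Z}
    (hd : pullback.diagonal f ≫ c = pullback.diagonal f ≫ c')
    (hU' : pullback.snd j (pullback.fst f f ≫ f) ≫ c = pullback.snd j (pullback.fst f f ≫ f) ≫ c') : c = c' := by
  have hun : LocP (@LocallyOfFiniteType ⊓ @FormallyUnramified) f :=
    locP_mono (fun X Y g (hg : Etale g) => ⟨inferInstance, inferInstance⟩) ((isEtaleMor_iff_locP hW).1 hsq.2.1)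
  have hD : RepWith @IsOpenImmersion (pullback.diagonal f) :=
    repWith_diagonal_isOpenImmersion_of_unramified hV hW hun
  have hK := isAlgSpace_pullback hW.diag hV hV f f
  have hI : RepWith @IsOpenImmersion (pullback.snd j (pullback.fst f f ≫ f)) :=
    (repWith_isStableUnderBaseChange _).of_isPullback (IsPullback.of_hasPullback _ _) hsq.1
  have hX := isAlgSpace_pullback hW.diag hU hK j (pullback.fst f f ≫ f)
  refine (isLocCover_of_etale hV hX _ _ (isEtaleMor_of_openImm hD) (isEtaleMor_of_openImm hI) ?_).hom_ext hd hU'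
  intro x
  by_cases hx : Points.map (pullback.fst f f ≫ f) x ∈ Set.range (Points.map j)
  · obtain ⟨u, hu⟩ := hx
    obtain ⟨z, -, hz⟩ := points_exists_of_isPullback (IsPullback.of_hasPullback j (pullback.fst f f ≫ f)) u x hu
    exact Or.inr ⟨z, hz⟩
  · refine Or.inl ?_
    induction x using Points.ind with | h p =>
    let g := (GrothendieckTopology.uliftYonedaEquiv.{u+1} (J S)).symm p.val
    have hp : ∀ q, Points.ofPt g q = Points.mk p := fun q => by
      let x0 : Points ((yon S).obj p.pt) := Points.mk ⟨p.K, p.str, ⟨𝟙 _⟩⟩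
      have : Subsingleton ↥p.pt.left := inferInstanceAs (Subsingleton (PrimeSpectrum p.K))
      rw [Subsingleton.elim q (Points.toScheme _ x0), Points.ofPt_eq_map_ofScheme, Points.ofScheme_toScheme,
        Points.map_mk]
      have : g.hom.app (op p.pt) ⟨𝟙 _⟩ = p.val := by
        rw [← GrothendieckTopology.uliftYonedaEquiv_apply, Equiv.apply_symm_apply]
      exact congrArg Points.mk (congrArg (FieldPt.mk p.K p.str) this)
    haveI : IsReduced p.pt.left := inferInstanceAs (IsReduced (Spec (CommRingCat.of p.K)))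
    have e := lift_unique hsq (g ≫ pullback.fst f f) (g ≫ pullback.snd f f)
      (by simp [pullback.condition]) (fun q => by
        rw [Category.assoc, ← Points.map_ofPt, hp]; exact hx)
    obtain ⟨q0⟩ : Nonempty ↥p.pt.left := inferInstanceAs (Nonempty (PrimeSpectrum p.K))
    refine ⟨Points.ofPt (g ≫ pullback.fst f f) q0, ?_⟩
    rw [Points.map_ofPt, ← hp q0]
    congr 1
    apply pullback.hom_ext <;> simp [e]

theorem exists_desc (hU : IsAlgSpace U) (hV : IsAlgSpace V) (hW : IsAlgSpace W) (hsq : IsElemDistSq j f)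
    {p : P ⟶ U} {q : P ⟶ V} (hP : IsPullback p q j f) {Z : Sp S} (α : U ⟶ Z) (β : V ⟶ Z)
    (hc : p ≫ α = q ≫ β) : ∃ c : W ⟶ Z, j ≫ c = α ∧ f ≫ c = β := by
  haveI : Mono j := mono_of_repWith (P := @IsOpenImmersion)
    (fun g hg => haveI : IsOpenImmersion g := hg; inferInstance) hsq.1
  have hab : ∀ {Q : Sp S} (x : Q ⟶ U) (y : Q ⟶ V), x ≫ j = y ≫ f → x ≫ α = y ≫ β := fun x y e => by
    calc x ≫ α = (hP.lift x y e ≫ p) ≫ α := congrArg (· ≫ α) (hP.lift_fst x y e).symm
      _ = (hP.lift x y e ≫ q) ≫ β := by rw [Category.assoc, Category.assoc, hc]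
      _ = y ≫ β := congrArg (· ≫ β) (hP.lift_snd x y e)
  have hK : pullback.fst f f ≫ β = pullback.snd f f ≫ β := by
    have w := pullback.condition (f := j) (g := pullback.fst f f ≫ f)
    have e1 := hab _ (pullback.snd j (pullback.fst f f ≫ f) ≫ pullback.fst f f) (w.trans (Category.assoc _ _ _).symm)
    have e2 := hab _ (pullback.snd j (pullback.fst f f ≫ f) ≫ pullback.snd f f)
      (w.trans ((congrArg (_ ≫ ·) pullback.condition).trans (Category.assoc _ _ _).symm))
    refine kernelPair_hom_ext hV hW hU hsq (by simp) ?_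
    rw [← Category.assoc, ← e1, ← Category.assoc, ← e2]
  refine (isLocCover_of_etale hU hV j f (isEtaleMor_of_openImm hsq.1) hsq.2.1 (mem_range_or hsq)).exists_desc α β
    (fun x y e => by rw [(cancel_mono j).1 e]) (fun x y e => hab x y e) (fun x y e => ?_)
  rw [← pullback.lift_fst x y e, Category.assoc, hK, pullback.lift_snd_assoc]

theorem hom_ext (hU : IsAlgSpace U) (hV : IsAlgSpace V) (hsq : IsElemDistSq j f) {Z : Sp S} {c c' : W ⟶ Z}
    (h1 : j ≫ c = j ≫ c') (h2 : f ≫ c = f ≫ c') : c = c' :=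
  (isLocCover_of_etale hU hV j f (isEtaleMor_of_openImm hsq.1) hsq.2.1 (mem_range_or hsq)).hom_ext h1 h2

end Groth.Agent.ElemSqLib
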