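import Groth.Agent.ASp.UnramDiag
import Groth.Agent.ASp.LargestOpen
import Groth.Agent.ASp.RedFactor

/-!
Descent of morphisms along a jointly surjective pair of étale morphisms of algebraic spaces.
-/

set_option autoImplicit false
set_option backward.isDefEq.respectTransparency false
set_option backward.isDefEq.respectTransparency.types false

universe u

open CategoryTheory CategoryTheory.Limits AlgebraicGeometry Opposite

namespace Groth.Agent.ElemSqLib

open _root_.AlgSp Groth.Agent.ASp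

variable {S : Scheme.{u}}

abbrev el {T : Over S} {F : Sp S} : ((yon S).obj T ⟶ F) ≃ F.obj.obj (op T) :=
  GrothendieckTopology.uliftYonedaEquiv.{u+1} (J S)

theorem el_comp {T : Over S} {F G : Sp S} (g : (yon S).obj T ⟶ F) (f : F ⟶ G) :
    el (g ≫ f) = f.hom.app (op T) (el g) := rfl

/-- The sieve of `T` where a section of `W` lifts along `a` or along `b`. -/
def pairSieve {A B W : Sp S} (a : A ⟶ W) (b : B ⟶ W) {T : Over S} (w : W.obj.obj (op T)) : Sieve T :=
  Presheaf.imageSieve a.hom w ⊔ Presheaf.imageSieve b.hom w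

/-- Sections of `W` lift locally along `a` or `b`. -/
def IsLocCover {A B W : Sp S} (a : A ⟶ W) (b : B ⟶ W) : Prop :=
  ∀ (T : Over S) (w : W.obj.obj (op T)), pairSieve a b w ∈ J S T

theorem isLocCover_of_etale {A B W : Sp S} (hA : IsAlgSpace A) (hB : IsAlgSpace B) (a : A ⟶ W) (b : B ⟶ W)
    (ha : IsEtaleMor a) (hb : IsEtaleMor b)
    (hs : ∀ x : Points W, x ∈ Set.range (Points.map a) ∨ x ∈ Set.range (Points.map b)) :
    IsLocCover a b := by
  intro T w
  obtain ⟨g, rfl⟩ := (el).surjective w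
  obtain ⟨A₀, pA, hpA, hpAs⟩ := hA.atlas
  obtain ⟨B₀, pB, hpB, hpBs⟩ := hB.atlas
  have h1 := ha pA hpA
  have h2 := hb pB hpB
  have sq1 := h1.1.isPullback g
  have sq2 := h2.1.isPullback g
  have e1 : Etale (h1.1.snd g).left := h1.2 g _ _ sq1
  have e2 : Etale (h2.1.snd g).left := h2.2 g _ _ sq2
  let X : Bool → Scheme.{u} := fun i => Bool.rec (h2.1.pullback g).left (h1.1.pullback g).left i
  let f : ∀ i, X i ⟶ T.left := fun i => Bool.rec (h2.1.snd g).left (h1.1.snd g).left i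
  have hcov : Presieve.ofArrows X f ∈ Scheme.fppfPrecoverage T.left := by
    refine (Scheme.ofArrows_mem_precoverage_iff _).2 ⟨fun t => ?_, ?_⟩
    · rcases hs (Points.ofPt g t) with ⟨x, hx⟩ | ⟨x, hx⟩
      · obtain ⟨x₀, rfl⟩ := surjective_map_of_repWith hpAs x
        have : t ∈ Points.ofPt g ⁻¹' (Points.map (pA ≫ a) '' Set.univ) :=
          ⟨x₀, trivial, by rw [Points.map_comp]; exact hx⟩
        rw [preimage_ofPt_image sq1] at this
        obtain ⟨v, -, hv⟩ := this
        exact ⟨true, v, hv⟩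
      · obtain ⟨x₀, rfl⟩ := surjective_map_of_repWith hpBs x
        have : t ∈ Points.ofPt g ⁻¹' (Points.map (pB ≫ b) '' Set.univ) :=
          ⟨x₀, trivial, by rw [Points.map_comp]; exact hx⟩
        rw [preimage_ofPt_image sq2] at this
        obtain ⟨v, -, hv⟩ := this
        exact ⟨false, v, hv⟩
    · rintro (_ | _)
      · exact ⟨inferInstanceAs (Flat (h2.1.snd g).left), inferInstanceAs (LocallyOfFinitePresentation (h2.1.snd g).left)⟩
      · exact ⟨inferInstanceAs (Flat (h1.1.snd g).left), inferInstanceAs (LocallyOfFinitePresentation (h1.1.snd g).left)⟩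
  rw [GrothendieckTopology.mem_over_iff]
  refine GrothendieckTopology.superset_covering _ ?_ (Precoverage.generate_mem_toGrothendieck hcov)
  rw [Sieve.generate_le_iff]
  rintro _ _ ⟨i⟩
  cases i
  · refine ⟨h2.1.pullback g, h2.1.snd g, 𝟙 _, Or.inr ⟨el (h2.1.fst g ≫ pB), ?_⟩, by simp [f]⟩
    rw [← el_comp, Category.assoc, sq2.w]
    exact (GrothendieckTopology.uliftYonedaEquiv_naturality.{u+1} (J S) g (h2.1.snd g)).symm
  · refine ⟨h1.1.pullback g, h1.1.snd g, 𝟙 _, Or.inl ⟨el (h1.1.fst g ≫ pA), ?_⟩, by simp [f]⟩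
    rw [← el_comp, Category.assoc, sq1.w]
    exact (GrothendieckTopology.uliftYonedaEquiv_naturality.{u+1} (J S) g (h1.1.snd g)).symm

variable {A B W Z : Sp S} {a : A ⟶ W} {b : B ⟶ W}

theorem isSheaf_type (Z : Sp S) : Presieve.IsSheaf (J S) Z.obj :=
  (isSheaf_iff_isSheaf_of_type _ _).1 Z.property

/-- A pair forming a local cover is jointly epimorphic. -/
theorem IsLocCover.hom_ext (h : IsLocCover a b) {c c' : W ⟶ Z} (ha : a ≫ c = a ≫ c') (hb : b ≫ c = b ≫ c') :
    c = c' := by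
  apply Sheaf.hom_ext
  ext ⟨T⟩ w
  show c.hom.app (op T) w = c'.hom.app (op T) w
  refine ((isSheaf_type Z) _ (h T w)).isSeparatedFor.ext fun Y f hf => ?_
  rw [← NatTrans.naturality_apply, ← NatTrans.naturality_apply]
  rcases hf with ⟨x, hx⟩ | ⟨x, hx⟩
  · rw [← hx]
    exact congrArg (fun φ : A ⟶ Z => φ.hom.app (op Y) x) ha
  · rw [← hx]
    exact congrArg (fun φ : B ⟶ Z => φ.hom.app (op Y) x) hb

/-- `z` is the value at `w` forced by `α` or by `β`. -/
def Forced (a : A ⟶ W) (b : B ⟶ W) (α : A ⟶ Z) (β : B ⟶ Z) {T : Over S} (w : W.obj.obj (op T))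
    (z : Z.obj.obj (op T)) : Prop :=
  (∃ x, a.hom.app (op T) x = w ∧ α.hom.app (op T) x = z) ∨ (∃ x, b.hom.app (op T) x = w ∧ β.hom.app (op T) x = z)

variable {α : A ⟶ Z} {β : B ⟶ Z}

theorem Forced.map {T T' : Over S} {w : W.obj.obj (op T)} {z : Z.obj.obj (op T)} (h : Forced a b α β w z)
    (f : T' ⟶ T) : Forced a b α β (W.obj.map f.op w) (Z.obj.map f.op z) := by
  rcases h with ⟨x, rfl, rfl⟩ | ⟨x, rfl, rfl⟩
  · exact Or.inl ⟨A.obj.map f.op x, NatTrans.naturality_apply _ _ _, NatTrans.naturality_apply _ _ _⟩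
  · exact Or.inr ⟨B.obj.map f.op x, NatTrans.naturality_apply _ _ _, NatTrans.naturality_apply _ _ _⟩

/-- Descent of a morphism along a local cover by two maps. -/
theorem IsLocCover.exists_desc (h : IsLocCover a b) (α : A ⟶ Z) (β : B ⟶ Z)
    (haa : ∀ {T} (x y : (yon S).obj T ⟶ A), x ≫ a = y ≫ a → x ≫ α = y ≫ α)
    (hab : ∀ {T} (x : (yon S).obj T ⟶ A) (y : (yon S).obj T ⟶ B), x ≫ a = y ≫ b → x ≫ α = y ≫ β)
    (hbb : ∀ {T} (x y : (yon S).obj T ⟶ B), x ≫ b = y ≫ b → x ≫ β = y ≫ β) :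
    ∃ c : W ⟶ Z, a ≫ c = α ∧ b ≫ c = β := by
  have uniq : ∀ {T : Over S} {w : W.obj.obj (op T)} {z z' : Z.obj.obj (op T)},
      Forced a b α β w z → Forced a b α β w z' → z = z' := by
    intro T w z z' hz hz'
    rcases hz with ⟨x, hx, rfl⟩ | ⟨x, hx, rfl⟩ <;> rcases hz' with ⟨y, hy, rfl⟩ | ⟨y, hy, rfl⟩ <;>
      obtain ⟨x', rfl⟩ := (el).surjective x <;> obtain ⟨y', rfl⟩ := (el).surjective y <;>
      simp only [← el_comp] at hx hy ⊢ <;> refine congrArg el ?_
    · exact haa x' y' ((el).injective (hx.trans hy.symm))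
    · exact hab x' y' ((el).injective (hx.trans hy.symm))
    · exact (hab y' x' ((el).injective (hy.trans hx.symm))).symm
    · exact hbb x' y' ((el).injective (hx.trans hy.symm))
  have ex : ∀ {T : Over S} (w : W.obj.obj (op T)), ∀ ⦃Y⦄ (f : Y ⟶ T), pairSieve a b w f →
      ∃ z, Forced a b α β (W.obj.map f.op w) z := by
    intro T w Y f hf
    rcases hf with ⟨x, hx⟩ | ⟨x, hx⟩
    · exact ⟨α.hom.app _ x, Or.inl ⟨x, hx, rfl⟩⟩
    · exact ⟨β.hom.app _ x, Or.inr ⟨x, hx, rfl⟩⟩
  choose z hz using @ex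
  let fam : ∀ {T : Over S} (w : W.obj.obj (op T)),
      Presieve.FamilyOfElements Z.obj (pairSieve a b w).arrows := fun w Y f hf => z w f hf
  have comp : ∀ {T : Over S} (w : W.obj.obj (op T)), (fam w).Compatible := by
    intro T w Y₁ Y₂ V g₁ g₂ f₁ f₂ h₁ h₂ e
    refine uniq ((hz w f₁ h₁).map g₁) ?_
    have e' : W.obj.map g₁.op (W.obj.map f₁.op w) = W.obj.map g₂.op (W.obj.map f₂.op w) := by
      rw [← Functor.map_comp_apply, ← Functor.map_comp_apply, ← op_comp, ← op_comp, e]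
    rw [e']
    exact (hz w f₂ h₂).map g₂
  let val : ∀ {T : Over S} (w : W.obj.obj (op T)), Z.obj.obj (op T) := fun {T} w =>
    ((isSheaf_type Z) _ (h T w)).amalgamate (fam w) (comp w)
  have hval : ∀ {T : Over S} (w : W.obj.obj (op T)) {Y} (f : Y ⟶ T) (hf : pairSieve a b w f),
      Z.obj.map f.op (val w) = z w f hf := fun {T} w Y f hf =>
    ((isSheaf_type Z) _ (h T w)).valid_glue (comp w) f hf
  have nat : ∀ {T T' : Over S} (k : T' ⟶ T) (w : W.obj.obj (op T)),
      val (W.obj.map k.op w) = Z.obj.map k.op (val w) := by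
    intro T T' k w
    refine ((isSheaf_type Z) _ (h T' (W.obj.map k.op w))).isSeparatedFor.ext fun Y f hf => ?_
    have hf' : pairSieve a b w (f ≫ k) := by
      rcases hf with ⟨x, hx⟩ | ⟨x, hx⟩
      · exact Or.inl ⟨x, by rw [hx, op_comp, Functor.map_comp_apply]⟩
      · exact Or.inr ⟨x, by rw [hx, op_comp, Functor.map_comp_apply]⟩
    rw [hval _ f hf, ← Functor.map_comp_apply, ← op_comp, hval w (f ≫ k) hf']
    refine uniq (hz _ f hf) ?_
    have e := hz w (f ≫ k) hf'
    simp only [op_comp, Functor.map_comp_apply] at e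
    exact e
  have point : ∀ {T : Over S} (w : W.obj.obj (op T)) (r : Z.obj.obj (op T)),
      Forced a b α β w r → val w = r := fun {T} w r hr =>
    ((isSheaf_type Z) _ (h T w)).isSeparatedFor.ext fun Y f hf => by
      rw [hval w f hf]
      exact uniq (hz w f hf) (hr.map f)
  refine ⟨⟨{ app := fun T => ↾fun w => val (T := T.unop) w
             naturality := fun T T' k => by
               ext w
               exact nat k.unop w }⟩, ?_, ?_⟩
  · apply Sheaf.hom_ext; ext ⟨T⟩ x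
    exact point _ _ (Or.inl ⟨x, rfl, rfl⟩)
  · apply Sheaf.hom_ext; ext ⟨T⟩ x
    exact point _ _ (Or.inr ⟨x, rfl, rfl⟩)

end Groth.Agent.ElemSqLib
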