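import Groth.Agent.ElemSqLib.Main
import Groth.Agent.EtSmLib.Space
import Groth.Agent.ASp.ThickImm
import Groth.Agent.ASp.Univ
import Groth.Agent.ASp.SepDiag
import Groth.Agent.FpqcDesc.Basic

/-!
Separatedness along an elementary distinguished square.
-/

set_option autoImplicit false
set_option backward.isDefEq.respectTransparency false
set_option backward.isDefEq.respectTransparency.types false

universe u

open CategoryTheory CategoryTheory.Limits AlgebraicGeometry Opposite

namespace Groth.Agent.ElemSqLib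

open _root_.AlgSp Groth.Agent.ASp

section

variable {C : Type*} [Category C] [HasPullbacks C]

/-- Changing the second factor of a fibre product is a base change. -/
theorem isPullback_mapSnd {A B Q Q' : C} (a : A ⟶ B) (b : Q' ⟶ B) (p : Q ⟶ Q') :
    IsPullback (pullback.lift (pullback.fst a (p ≫ b)) (pullback.snd a (p ≫ b) ≫ p)
      (by rw [Category.assoc]; exact pullback.condition))
      (pullback.snd a (p ≫ b)) (pullback.snd a b) p := by
  refine IsPullback.of_right (h₁₂ := pullback.fst a b) (v₁₃ := a) (h₂₂ := b) ?_ (pullback.lift_snd _ _ _)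
    (IsPullback.of_hasPullback a b).flip.flip
  rw [pullback.lift_fst]
  exact IsPullback.of_hasPullback a (p ≫ b)

/-- The graph is a base change of the diagonal. -/
theorem isPullback_graph {A B Q : C} (a : A ⟶ B) (p : Q ⟶ A) :
    IsPullback p (pullback.lift p (𝟙 Q) (Category.id_comp _).symm : Q ⟶ pullback a (p ≫ a)) (pullback.diagonal a)
      (pullback.lift (pullback.fst a (p ≫ a)) (pullback.snd a (p ≫ a) ≫ p)
        (by rw [Category.assoc]; exact pullback.condition)) := by
  refine IsPullback.of_bot ?_ ?_ (isPullback_mapSnd a a p)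
  · rw [pullback.lift_snd, pullback.diagonal_snd]
    exact IsPullback.of_vert_isIso ⟨by simp⟩
  · apply pullback.hom_ext <;> simp [Category.id_comp p]

/-- The diagonal pulled back to a pair of charts. -/
theorem isPullback_diag_chart {A B X Y P : C} (g : X ⟶ Y) {a : A ⟶ X} {b : B ⟶ X} {pX : P ⟶ A} {qX : P ⟶ B}
    (hP : IsPullback pX qX a b) (c : P ⟶ pullback (a ≫ g) (b ≫ g)) (h1 : c ≫ pullback.fst _ _ = pX)
    (h2 : c ≫ pullback.snd _ _ = qX) :
    IsPullback (pX ≫ a) c (pullback.diagonal g)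
      (pullback.map (a ≫ g) (b ≫ g) g g a b (𝟙 Y) (Category.comp_id _) (Category.comp_id _)) := by
  refine (pullback_map_diagonal_isPullback a b g).of_iso hP.isoPullback.symm (Iso.refl _) (Iso.refl _) (Iso.refl _) ?_ ?_ (by simp) (by simp)
  · rw [Iso.refl_hom, Category.comp_id, Iso.symm_hom, ← Category.assoc, IsPullback.isoPullback_inv_fst]
  · rw [Iso.refl_hom, Category.comp_id, Iso.symm_hom, Iso.eq_inv_comp]
    apply pullback.hom_ext
    · simp only [Category.assoc, h1, pullback.map, pullback.lift_fst]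
      rw [← Category.assoc, IsPullback.isoPullback_hom_fst]
      simp
    · simp only [Category.assoc, h2, pullback.map, pullback.lift_snd]
      rw [← Category.assoc, IsPullback.isoPullback_hom_snd]
      simp

end

variable {S : Scheme.{u}}

theorem isEtaleMor_pullbackMap {A B X Y : Sp S} (g : X ⟶ Y) (hA : IsAlgSpace A) (hB : IsAlgSpace B)
    (hX : IsAlgSpace X) (hY : IsAlgSpace Y) {a : A ⟶ X} {b : B ⟶ X} (ha : IsEtaleMor a) (hb : IsEtaleMor b) :
    IsEtaleMor (pullback.map (a ≫ g) (b ≫ g) g g a b (𝟙 Y) (Category.comp_id _) (Category.comp_id _)) := by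
  let m₂ : pullback (a ≫ g) (b ≫ g) ⟶ pullback (a ≫ g) g :=
    pullback.lift (pullback.fst _ _) (pullback.snd _ _ ≫ b) (by rw [Category.assoc]; exact pullback.condition)
  let m₁ : pullback (a ≫ g) g ⟶ pullback g g :=
    pullback.lift (pullback.fst _ _ ≫ a) (pullback.snd _ _) (by rw [Category.assoc]; exact pullback.condition)
  have h2 : IsPullback m₂ (pullback.snd (a ≫ g) (b ≫ g)) (pullback.snd (a ≫ g) g) b := isPullback_mapSnd (a ≫ g) g b
  have h1 : IsPullback m₁ (pullback.fst (a ≫ g) g) (pullback.fst g g) a := by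
    refine IsPullback.of_right (h₁₂ := pullback.snd g g) (v₁₃ := g) (h₂₂ := g) ?_ (pullback.lift_fst _ _ _)
      (IsPullback.of_hasPullback g g).flip
    rw [pullback.lift_snd]
    exact (IsPullback.of_hasPullback (a ≫ g) g).flip
  have hag := isAlgSpace_pullback hY.diag hA hX (a ≫ g) g
  have e : pullback.map (a ≫ g) (b ≫ g) g g a b (𝟙 Y) (Category.comp_id _) (Category.comp_id _) = m₂ ≫ m₁ := by
    apply pullback.hom_ext <;> simp [m₁, m₂, pullback.map]
  rw [e]
  exact EtSmLib.isEtaleMor_comp' (EtSmLib.isEtaleMor_baseChange h2 hB hX hag hb)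
    (EtSmLib.isEtaleMor_baseChange h1 hA hX (isAlgSpace_pullback hY.diag hX hX g g) ha)

/-- The comparison map `U ×_X V ⟶ U ×_Y V` is an immersion. -/
theorem repWith_immersion_compare {U V X Y P : Sp S} {g : X ⟶ Y} {j : U ⟶ X} {f : V ⟶ X}
    (hj : RepWith @IsOpenImmersion j) (hU : IsSeparatedMor (j ≫ g)) {pX : P ⟶ U} {qX : P ⟶ V}
    (hP : IsPullback pX qX j f) (c : P ⟶ pullback (j ≫ g) (f ≫ g)) (h1 : c ≫ pullback.fst _ _ = pX)
    (h2 : c ≫ pullback.snd _ _ = qX) : RepWith @IsImmersion c := by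
  have hq : RepWith @IsOpenImmersion qX := repWith_of_isPullback hP hj
  have hw : qX ≫ f ≫ g = pX ≫ j ≫ g := by rw [← Category.assoc, ← Category.assoc, hP.w]
  let e : pullback (j ≫ g) (pX ≫ j ≫ g) ≅ pullback (j ≫ g) (qX ≫ f ≫ g) := pullback.congrHom rfl hw.symm
  have hγ := repWith_of_isPullback (isPullback_graph (j ≫ g) pX) hU
  have hm : RepWith @IsOpenImmersion _ := repWith_of_isPullback (isPullback_mapSnd (j ≫ g) (f ≫ g) qX).flip hq
  have hγ' := MorphismProperty.RespectsIso.postcomp (RepWith (S := S) @IsClosedImmersion) e.hom _ hγ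
  have hc := repWith_comp (P := @IsImmersion)
    (repWith_mono (Q := @IsImmersion) (fun _ _ k (hk : IsClosedImmersion k) => inferInstance) hγ')
    (repWith_mono (Q := @IsImmersion) (fun _ _ k (hk : IsOpenImmersion k) => inferInstance) hm)
  convert hc using 1
  apply pullback.hom_ext <;> simp [e, h1, h2, Category.id_comp qX]

/-- Separatedness from the two pieces of an elementary distinguished square. -/
theorem isSeparatedMor_of_elemDistSq {U V X Y PX QX : Sp S} (hUs : IsAlgSpace U) (hVs : IsAlgSpace V)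
    (hX : IsAlgSpace X) (hY : IsAlgSpace Y) (g : X ⟶ Y) {j : U ⟶ X} {f : V ⟶ X} (hsq : IsElemDistSq j f)
    (hU : IsSeparatedMor (j ≫ g)) {pX : PX ⟶ U} {qX : PX ⟶ V} (hPX : IsPullback pX qX j f)
    (c : PX ⟶ pullback (j ≫ g) (f ≫ g)) (hc₁ : c ≫ pullback.fst _ _ = pX) (hc₂ : c ≫ pullback.snd _ _ = qX)
    (hcl : IsClosed (Set.range (Points.map c)))
    {r₁ r₂ : QX ⟶ V} (hQX : IsPullback r₁ r₂ f f) (d : QX ⟶ pullback (f ≫ g) (f ≫ g))
    (hd₁ : d ≫ pullback.fst _ _ = r₁) (hd₂ : d ≫ pullback.snd _ _ = r₂) (hd : RepWith @IsClosedImmersion d) :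
    IsSeparatedMor g := by
  haveI : Mono j := mono_of_repWith (P := @IsOpenImmersion)
    (fun k hk => haveI : IsOpenImmersion k := hk; inferInstance) hsq.1
  have hje := isEtaleMor_of_openImm hsq.1
  have hfe := hsq.2.1
  have hUU : RepWith @IsClosedImmersion (pullback.diagonal (j ≫ g)) := hU
  have hUV : RepWith @IsClosedImmersion c :=
    closedImmersion_of_isClosed_range (repWith_immersion_compare hsq.1 hU hPX c hc₁ hc₂) hcl
  have hVU : RepWith @IsClosedImmersion (c ≫ (pullbackSymmetry (j ≫ g) (f ≫ g)).hom) :=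
    MorphismProperty.RespectsIso.postcomp _ _ _ hUV
  let A : ULift.{u} (Bool × Bool) → Sp S := fun i => match i with
    | ⟨(true, true)⟩ => pullback (j ≫ g) (j ≫ g)
    | ⟨(true, false)⟩ => pullback (j ≫ g) (f ≫ g)
    | ⟨(false, true)⟩ => pullback (f ≫ g) (j ≫ g)
    | ⟨(false, false)⟩ => pullback (f ≫ g) (f ≫ g)
  let B : ULift.{u} (Bool × Bool) → Sp S := fun i => match i with
    | ⟨(true, true)⟩ => U
    | ⟨(true, false)⟩ => PX
    | ⟨(false, true)⟩ => PX
    | ⟨(false, false)⟩ => QX
  let m : ∀ i, A i ⟶ pullback g g := fun i => match i with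
    | ⟨(true, true)⟩ => pullback.map _ _ g g j j (𝟙 Y) (Category.comp_id _) (Category.comp_id _)
    | ⟨(true, false)⟩ => pullback.map _ _ g g j f (𝟙 Y) (Category.comp_id _) (Category.comp_id _)
    | ⟨(false, true)⟩ => pullback.map _ _ g g f j (𝟙 Y) (Category.comp_id _) (Category.comp_id _)
    | ⟨(false, false)⟩ => pullback.map _ _ g g f f (𝟙 Y) (Category.comp_id _) (Category.comp_id _)
  let p : ∀ i, B i ⟶ A i := fun i => match i with
    | ⟨(true, true)⟩ => pullback.diagonal (j ≫ g)
    | ⟨(true, false)⟩ => c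
    | ⟨(false, true)⟩ => c ≫ (pullbackSymmetry (j ≫ g) (f ≫ g)).hom
    | ⟨(false, false)⟩ => d
  let q : ∀ i, B i ⟶ X := fun i => match i with
    | ⟨(true, true)⟩ => 𝟙 U ≫ j
    | ⟨(true, false)⟩ => pX ≫ j
    | ⟨(false, true)⟩ => qX ≫ f
    | ⟨(false, false)⟩ => r₁ ≫ f
  have hA : ∀ i, IsAlgSpace (A i) := fun i => match i with
    | ⟨(true, true)⟩ => isAlgSpace_pullback hY.diag hUs hUs _ _
    | ⟨(true, false)⟩ => isAlgSpace_pullback hY.diag hUs hVs _ _
    | ⟨(false, true)⟩ => isAlgSpace_pullback hY.diag hVs hUs _ _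
    | ⟨(false, false)⟩ => isAlgSpace_pullback hY.diag hVs hVs _ _
  have hm : ∀ i, IsEtaleMor (m i) := fun i => match i with
    | ⟨(true, true)⟩ => isEtaleMor_pullbackMap g hUs hUs hX hY hje hje
    | ⟨(true, false)⟩ => isEtaleMor_pullbackMap g hUs hVs hX hY hje hfe
    | ⟨(false, true)⟩ => isEtaleMor_pullbackMap g hVs hUs hX hY hfe hje
    | ⟨(false, false)⟩ => isEtaleMor_pullbackMap g hVs hVs hX hY hfe hfe
  have hK := isAlgSpace_pullback hY.diag hX hX g g
  have hle : ∀ i, LocP @Etale (m i) := fun i => (isEtaleMor_iff_locP hK).1 (hm i)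
  have hτ : IsFpqcCover A m := by
    refine isFpqcCover_of_fppf hK hA (fun i => locP_mono (Q := @Flat) (fun _ _ k (hk : Etale k) => inferInstance) (hle i))
      (fun i => locP_mono (Q := @LocallyOfFinitePresentation) (fun _ _ k (hk : Etale k) => inferInstance) (hle i)) fun y => ?_
    have key : ∀ {A' B' : Sp S} (a : A' ⟶ X) (b : B' ⟶ X),
        Points.map (pullback.fst g g) y ∈ Set.range (Points.map a) →
        Points.map (pullback.snd g g) y ∈ Set.range (Points.map b) →
        y ∈ Set.range (Points.map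
          (pullback.map (a ≫ g) (b ≫ g) g g a b (𝟙 Y) (Category.comp_id _) (Category.comp_id _))) := by
      intro A' B' a b ha hb
      obtain ⟨x₁, hx₁⟩ := ha
      obtain ⟨x₂, hx₂⟩ := hb
      have h1 : IsPullback (pullback.lift (pullback.fst (a ≫ g) g ≫ a) (pullback.snd _ _)
          (by rw [Category.assoc]; exact pullback.condition)) (pullback.fst (a ≫ g) g) (pullback.fst g g) a := by
        refine IsPullback.of_right (h₁₂ := pullback.snd g g) (v₁₃ := g) (h₂₂ := g) ?_ (pullback.lift_fst _ _ _)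
          (IsPullback.of_hasPullback g g).flip
        rw [pullback.lift_snd]
        exact (IsPullback.of_hasPullback (a ≫ g) g).flip
      obtain ⟨z₁, hz₁, -⟩ := points_exists_of_isPullback h1 y x₁ hx₁.symm
      have hz₁' : Points.map (pullback.snd (a ≫ g) g) z₁ = Points.map b x₂ := by
        rw [hx₂, ← hz₁, ← Points.map_comp, pullback.lift_snd]
      obtain ⟨z, hz, -⟩ := points_exists_of_isPullback (isPullback_mapSnd (a ≫ g) g b) z₁ x₂ hz₁'
      refine ⟨z, ?_⟩
      rw [← hz₁, ← hz, ← Points.map_comp]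
      congr 1
      apply pullback.hom_ext <;> simp [pullback.map]
    rcases mem_range_or hsq (Points.map (pullback.fst g g) y) with h1 | h1 <;>
      rcases mem_range_or hsq (Points.map (pullback.snd g g) y) with h2 | h2
    · exact ⟨⟨(true, true)⟩, key j j h1 h2⟩
    · exact ⟨⟨(true, false)⟩, key j f h1 h2⟩
    · exact ⟨⟨(false, true)⟩, key f j h1 h2⟩
    · exact ⟨⟨(false, false)⟩, key f f h1 h2⟩
  haveI := Groth.Agent.FpqcDesc.isClosedImmersion_descends
  refine repWith_of_fpqc (representable_diagonal hX.diag g) (q := q) (p := p) (fun i => ?_) hτ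
    fun i => match i with
      | ⟨(true, true)⟩ => hUU
      | ⟨(true, false)⟩ => hUV
      | ⟨(false, true)⟩ => hVU
      | ⟨(false, false)⟩ => hd
  match i with
  | ⟨(true, true)⟩ =>
    exact isPullback_diag_chart g (IsKernelPair.id_of_mono j) _ (pullback.diagonal_fst _) (pullback.diagonal_snd _)
  | ⟨(true, false)⟩ => exact isPullback_diag_chart g hPX c hc₁ hc₂
  | ⟨(false, true)⟩ =>
    exact isPullback_diag_chart g hPX.flip (c ≫ (pullbackSymmetry (j ≫ g) (f ≫ g)).hom)
      ((Category.assoc _ _ _).trans ((congrArg (c ≫ ·) (pullbackSymmetry_hom_comp_fst _ _)).trans hc₂))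
      ((Category.assoc _ _ _).trans ((congrArg (c ≫ ·) (pullbackSymmetry_hom_comp_snd _ _)).trans hc₁))
  | ⟨(false, false)⟩ => exact isPullback_diag_chart g hQX d hd₁ hd₂

end Groth.Agent.ElemSqLib
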